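import Groth.Agent.L05.MinExist.Main
import Groth.Agent.L05.MinDesing.Arith
import Groth.Agent.L05.InterPair.Vertical
import Groth.Agent.S1666
import Groth.Agent.S7935
import Groth.Agent.L03.ShStab.RankOneSlope
import Groth.Agent.L03.BlowPt.PullDiv

/-!
# The contraction of a regular proper model

The contracted scheme is again a regular proper model; its components are the images of the other
components, with the same multiplicities, and the intersection numbers change by the usual formula.
-/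

set_option autoImplicit false
set_option linter.style.haveILetI false
set_option backward.isDefEq.respectTransparency false

universe u

open CategoryTheory CategoryTheory.Limits AlgebraicGeometry TopologicalSpace

noncomputable section

namespace Groth.L05.ModelContr

open Groth.L05.FibreDecomp Groth.L05.InterPair Groth.L05.PtSeq

variable {R : Type u} [CommRing R] [IsDomain R] [IsDiscreteValuationRing R]

/-- Powers of the maximal ideal determine the exponent, away from fields. -/
theorem eq_of_pow_eq {A : Type u} [CommRing A] [IsLocalRing A] [IsDomain A] [IsNoetherianRing A]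
    (hA : IsLocalRing.maximalIdeal A ≠ ⊥) {a c : ℕ}
    (h : IsLocalRing.maximalIdeal A ^ a = IsLocalRing.maximalIdeal A ^ c) : a = c := by
  wlog hac : a < c generalizing a c
  · rcases (not_lt.1 hac).eq_or_lt with e | e
    · exact e.symm
    · exact (this h.symm e).symm
  exfalso
  set m := IsLocalRing.maximalIdeal A
  have h1 : m ^ a ≤ m • m ^ a := by
    rw [smul_eq_mul, ← pow_succ']
    exact h.le.trans (Ideal.pow_le_pow_right hac)
  have h2 := Submodule.eq_bot_of_le_smul_of_le_jacobson_bot m (m ^ a) (IsNoetherian.noetherian _) h1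
    (IsLocalRing.maximalIdeal_le_jacobson _)
  exact pow_ne_zero a hA h2

section Stalks

variable {X : Scheme.{u}}

theorem stI_generic (I : X.IdealSheafData) [IsIntegral I.subscheme] {x : X}
    (hx : IsGenericPoint x (I.support : Set X)) : stI I x = IsLocalRing.maximalIdeal (X.presheaf.stalk x) := by
  obtain ⟨U, hU⟩ := exists_affine x
  rw [stI_eq _ U hU]
  exact stalkIdeal_generic I U x hU hx

theorem stI_prod {ι : Type*} (s : Finset ι) (J : ι → X.IdealSheafData) (x : X) :
    stI (∏ i ∈ s, J i) x = ∏ i ∈ s, stI (J i) x := by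
  classical
  induction s using Finset.induction_on with
  | empty => rw [Finset.prod_empty, Finset.prod_empty, Scheme.IdealSheafData.one_eq_top, stI_top, Ideal.one_eq_top]
  | insert a t ha ih => rw [Finset.prod_insert ha, Finset.prod_insert ha, stI_mul, ih]

end Stalks

section Div

variable {X : Over (Spec (CommRingCat.of R))} [Flat X.hom] [IsLocallyNoetherian X.left]
  (hreg : Models.IsRegularScheme X.left) {n : ℕ} {Γ : Fin n → ArSurf.VertComp R X}
  (hΓ : Models.IsComponentList R X Γ)

include hreg hΓ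

theorem maximalIdeal_ne_bot (i : Fin n) :
    IsLocalRing.maximalIdeal (X.left.presheaf.stalk (Models.genPtOf R X (Γ i))) ≠ ⊥ := fun h0 => by
  have h1 := dim_genPtOf hreg hΓ i
  rw [ringKrullDim_eq_zero_of_isField (IsLocalRing.isField_iff_maximalIdeal_eq.2 h0)] at h1
  exact zero_ne_one h1

/-- The stalk of a vertical divisor at the generic point of a component. -/
theorem stI_div (e : Fin n → ℕ) (i : Fin n) :
    stI (div Γ e) (Models.genPtOf R X (Γ i)) =
      IsLocalRing.maximalIdeal (X.left.presheaf.stalk (Models.genPtOf R X (Γ i))) ^ e i := by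
  classical
  haveI := fun l => isIntegral_subscheme_ker (Γ l)
  rw [div, stI_prod, Finset.prod_eq_single i]
  · rw [stI_pow, stI_generic _ (isGenericPoint_genPtOf (Γ i))]
  · intro l _ hl
    rw [stI_pow, (stI_eq_top_iff _ _).2 fun h => hl (eq_of_genPtOf_mem hΓ h).symm, ← Ideal.one_eq_top, one_pow]
  · exact fun h => absurd (Finset.mem_univ i) h

theorem eq_of_stI_div (e : Fin n → ℕ) (i : Fin n) {m : ℕ}
    (h : stI (div Γ e) (Models.genPtOf R X (Γ i)) =
      IsLocalRing.maximalIdeal (X.left.presheaf.stalk (Models.genPtOf R X (Γ i))) ^ m) : e i = m := by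
  haveI := hreg (Models.genPtOf R X (Γ i))
  haveI := Groth.L01.isDomain_of_regular (X.left.presheaf.stalk (Models.genPtOf R X (Γ i)))
  rw [stI_div hreg hΓ] at h
  exact eq_of_pow_eq (maximalIdeal_ne_bot hreg hΓ i) h

theorem stI_fibre (i : Fin n) :
    stI (Models.specialFibreIdeal R X) (Models.genPtOf R X (Γ i)) =
      IsLocalRing.maximalIdeal (X.left.presheaf.stalk (Models.genPtOf R X (Γ i))) ^ Models.mult R X (Γ i) := by
  rw [specialFibreIdeal_eq_prod hreg hΓ]
  exact stI_div hreg hΓ (fun l => Models.mult R X (Γ l)) i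

end Div

theorem genPtOf_mem_fibre {X : Over (Spec (CommRingCat.of R))} (Γ : ArSurf.VertComp R X) (c : Γ.curve.left) :
    X.hom (Γ.ι c) = IsLocalRing.closedPoint R := by
  show (Γ.ι ≫ X.hom) c = IsLocalRing.closedPoint R
  rw [Γ.w]
  exact Groth.L05.GeomMult.range_pt.subset ⟨_, rfl⟩

section Contraction

variable {C X X' : Scheme.{u}} {f : C ⟶ Spec (CommRingCat.of (FractionRing R))}
  {p : X ⟶ Spec (CommRingCat.of R)} {p' : X' ⟶ Spec (CommRingCat.of R)}
  (hC : Curve.IsSmoothProperCurve (FractionRing R) C f) (hX : Models.IsRegularProperModel R X p C f)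

include hC hX

/-- The target of the contraction of an exceptional vertical curve is a regular proper model. -/
theorem isRegularProperModel (Γ : ArSurf.VertComp R (Over.mk p)) (hexc : Models.IsExcCurve Γ.ι)
    (b : X ⟶ X') (hb : Models.IsContractionOf Γ.ι b) (hcomm : b ≫ p' = p) :
    Models.IsRegularProperModel R X' p' C f := by
  obtain ⟨hint, hN, hdim, -⟩ := Groth.L05.MinModel.surface hC hX
  haveI := hint; haveI := hN
  haveI : IsProper (Over.mk p).hom := hX.2.1
  haveI : Flat (Over.mk p).hom := hX.1.1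
  haveI : IsIntegral (Over.mk p).left := hint
  haveI : AlgebraicGeometry.IsNoetherian (Over.mk p).left := hN
  have hA := Groth.L05.ModelProj.isArithSurface hC hX
  obtain ⟨L, -, ⟨hL⟩⟩ := Groth.L08.Cube.exists_inverse
    ((Groth.Agent.L19.IdealInvertible.isEffCartier_iff _).2 hexc.1)
  have hL' : ClSub.IsInverseOf L (ClSub.idealMod Γ.ι.ker) := ⟨Groth.L00.Tensor.tensorComm _ _ ≪≫ hL⟩
  obtain ⟨k', _, _, _, e, he, hself⟩ := Groth.L05.MinExist.exists_excData Γ hexc L hL'
  obtain ⟨Y, h, y₀, hy₀, hY, hrange, hpre, hiso⟩ :=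
    Groth.Agent.S3254.result R (Over.mk p) hA Γ k' e he L hL' hself
  haveI := hiso
  obtain ⟨hrY, hiY, hdY, hfY, hpY⟩ := id hY
  haveI := hiY; haveI := hfY
  haveI : IsProper Y.hom := Groth.L05.RelMinExists.isProper_of_projective hpY
  haveI : IsNoetherianRing (CommRingCat.of R) := inferInstanceAs (IsNoetherianRing R)
  haveI : IsLocallyNoetherian Y.left := LocallyOfFiniteType.isLocallyNoetherian Y.hom
  haveI : IsProper (h.left ≫ Y.hom) := by rw [Over.w h]; exact hX.2.1
  haveI : IsProper h.left := IsProper.of_comp h.left Y.hom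
  have hN' : ∀ a : Y.left, IsIntegrallyClosed (Y.left.presheaf.stalk a) := fun a =>
    haveI := hrY a; Groth.L03.RegularNormal.isIntegrallyClosed _
  have hgen : genericPoint Y.left ≠ y₀ := fun h0 => by
    have : ∀ a : Y.left, a = y₀ := fun a =>
      ((genericPoint_specializes a).mem_closed hy₀ h0)
    haveI : Subsingleton Y.left := ⟨fun a c => (this a).trans (this c).symm⟩
    haveI : DiscreteTopology Y.left := Subsingleton.discreteTopology
    have h1 := topologicalKrullDim_zero_of_discreteTopology Y.left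
    rw [hdY] at h1
    exact absurd h1 (by norm_num)
  obtain ⟨hNX', hproper, y, hy, hrangeb, -⟩ := id hb
  haveI := hproper
  have hmem : ∀ a : X, h.left a = y₀ → a ∈ Set.range Γ.ι := fun a ha => by
    by_contra hne
    exact (hpre.ge hne : h.left a ∈ ({y₀}ᶜ : Set Y.left)) ha
  have hby : ∀ a : X, h.left a = y₀ → b a = y := fun a ha => by
    obtain ⟨c, rfl⟩ := hmem a ha
    exact hrangeb.subset ⟨c, rfl⟩
  obtain ⟨u, hu, hu'⟩ := Groth.L13.Contraction.existsUnique_desc hexc b hb h.left y₀ hrange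
  obtain ⟨w, hw, hw'⟩ := Groth.L05.MinDesing.existsUnique_factor h.left hN' hy₀ hgen b
    fun a a' ha ha' => (hby a ha).trans (hby a' ha').symm
  have huw : u ≫ w = 𝟙 X' := by
    obtain ⟨v, -, hv⟩ := Groth.L13.Contraction.existsUnique_desc hexc b hb b y hrangeb
    rw [hv (u ≫ w) (show b ≫ u ≫ w = b by rw [← Category.assoc, hu, hw]), hv (𝟙 X') (Category.comp_id b)]
  have hwu : w ≫ u = 𝟙 Y.left := by
    obtain ⟨v, -, hv⟩ := Groth.L05.MinDesing.existsUnique_factor h.left hN' hy₀ hgen h.left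
      fun a a' ha ha' => ha.trans ha'.symm
    rw [hv (w ≫ u) (show h.left ≫ w ≫ u = h.left by rw [← Category.assoc, hw, hu]), hv (𝟙 _) (Category.comp_id _)]
  have hwp : w ≫ p' = Y.hom := by
    obtain ⟨v, -, hv⟩ := Groth.L05.MinDesing.existsUnique_factor h.left hN' hy₀ hgen p
      fun a a' ha ha' => by
        rw [show p = h.left ≫ Y.hom from (Over.w h).symm]
        exact congrArg (fun t => Y.hom t) (ha.trans ha'.symm)
    rw [hv (w ≫ p') (show h.left ≫ w ≫ p' = p by rw [← Category.assoc, hw, hcomm]), hv Y.hom (Over.w h)]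
  haveI : IsIso u := ⟨w, huw, hwu⟩
  have hp' : p' = u ≫ Y.hom := by rw [← hwp, ← Category.assoc, huw, Category.id_comp]
  haveI : IsProper p' := by rw [hp']; infer_instance
  haveI : Flat p' := by rw [hp']; infer_instance
  have hreg' : Models.IsRegularScheme X' := fun a =>
    haveI := hrY (u a)
    IsRegularLocalRing.of_ringEquiv (asIso (u.stalkMap a)).commRingCatIsoToRingEquiv
  obtain ⟨gX, hgX⟩ := hX.1.2.2.2
  haveI hiso' : IsIso ((Over.homMk b hcomm : Over.mk p ⟶ Over.mk p').left ∣_ (⟨{y}ᶜ, hy.isOpen_compl⟩ : X'.Opens)) := by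
    obtain ⟨-, -, y', hy', hr, hreg₂, hdim₂, hbl⟩ := id hb
    obtain rfl : y = y' := Set.singleton_eq_singleton_iff.1 (hrangeb.symm.trans hr)
    exact Groth.L05.PtSeq.IsPtBlow.isIso_off (b := b) ⟨hreg₂, hdim₂, hbl⟩
  haveI := Groth.L05.MinExist.isIso_genericFibre_of_restrict (Over.homMk b hcomm : Over.mk p ⟶ Over.mk p')
    (⟨{y}ᶜ, hy.isOpen_compl⟩ : X'.Opens) fun a ha ha' => ha (by
      rw [show a = y from ha']; exact Groth.L05.MinModel.closedPoint_of_closed p' hy)
  let e' := (Over.forget _).mapIso (asIso ((Neron.genericFibre R).map (Over.homMk b hcomm : Over.mk p ⟶ Over.mk p')))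
  have hej : e'.hom ≫ pullback.fst p' (Neron.genPt R) = pullback.fst p (Neron.genPt R) ≫ b := pullback.lift_fst _ _ _
  have hes : e'.hom ≫ pullback.snd p' (Neron.genPt R) = pullback.snd p (Neron.genPt R) := pullback.lift_snd _ _ _
  have hg' : IsPullback (gX ≫ b) f p' (Neron.genPt R) :=
    IsPullback.of_iso_pullback ⟨by rw [Category.assoc, hcomm]; exact hgX.w⟩ (hgX.isoPullback ≪≫ e')
      (by rw [Iso.trans_hom, Category.assoc, hej, hgX.isoPullback_hom_fst_assoc])
      (by rw [Iso.trans_hom, Category.assoc, hes, hgX.isoPullback_hom_snd])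
  exact ⟨⟨inferInstance, inferInstance, inferInstance, _, hg'⟩, inferInstance, hreg'⟩

end Contraction

/-- The data of a contraction between regular proper models. -/
structure Data (C : Scheme.{u}) (f : C ⟶ Spec (CommRingCat.of (FractionRing R))) where
  /-- the source -/
  X : Over (Spec (CommRingCat.of R))
  /-- the target -/
  X' : Over (Spec (CommRingCat.of R))
  /-- the contraction -/
  b : X ⟶ X'
  hC : Curve.IsSmoothProperCurve (FractionRing R) C f
  hX : Models.IsRegularProperModel R X.left X.hom C f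
  hX' : Models.IsRegularProperModel R X'.left X'.hom C f
  /-- the contracted curve -/
  E : ArSurf.VertComp R X
  /-- the centre -/
  y : X'.left
  hy : IsClosed ({y} : Set X'.left)
  hdim : ringKrullDim (X'.left.presheaf.stalk y) = 2
  hiso : IsIso (b.left ∣_ (⟨{y}ᶜ, hy.isOpen_compl⟩ : X'.left.Opens))
  hfib : b.left ⁻¹' {y} = Set.range (E.ι.base : E.curve.left → X.left)

namespace Data

variable {C : Scheme.{u}} {f : C ⟶ Spec (CommRingCat.of (FractionRing R))} (d : Data (R := R) C f)

/-- The complement of the centre. -/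
def W : d.X'.left.Opens := ⟨{d.y}ᶜ, d.hy.isOpen_compl⟩

instance isIso_W : IsIso (d.b.left ∣_ d.W) := d.hiso
instance integral : IsIntegral d.X.left := (Groth.L05.MinModel.surface d.hC d.hX).1
instance integral' : IsIntegral d.X'.left := (Groth.L05.MinModel.surface d.hC d.hX').1
instance noeth : AlgebraicGeometry.IsNoetherian d.X.left := (Groth.L05.MinModel.surface d.hC d.hX).2.1
instance noeth' : AlgebraicGeometry.IsNoetherian d.X'.left := (Groth.L05.MinModel.surface d.hC d.hX').2.1
instance flat : Flat d.X.hom := d.hX.1.1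
instance flat' : Flat d.X'.hom := d.hX'.1.1
instance proper : IsProper d.X.hom := d.hX.2.1
instance proper' : IsProper d.X'.hom := d.hX'.2.1
instance proper_b : IsProper d.b.left := by
  haveI : IsProper (d.b.left ≫ d.X'.hom) := by rw [Over.w d.b]; infer_instance
  exact IsProper.of_comp d.b.left d.X'.hom

theorem eq_of_eq {a c : d.X.left} (ha : d.b.left a ≠ d.y) (h : d.b.left a = d.b.left c) : a = c :=
  Groth.L05.RelMinExists.eq_of_isIso_restrict' d.b.left d.W ha h

theorem surjective (w : d.X'.left) : ∃ z, d.b.left z = w := by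
  haveI : IsIso (d.b.left ∣_ (⟨{d.y}ᶜ, d.hy.isOpen_compl⟩ : d.X'.left.Opens)) := d.hiso
  refine Groth.L05.MinModel.surjective_of_isIso_off d.b.left d.hy ⟨d.E.ι (genericPoint _), ?_⟩ w
  have : d.E.ι (genericPoint _) ∈ d.b.left ⁻¹' {d.y} := by rw [d.hfib]; exact ⟨_, rfl⟩
  exact this

theorem isIso_stalkMap {z : d.X.left} (hz : d.b.left z ≠ d.y) : IsIso (d.b.left.stalkMap z) := by
  haveI : IsIso ((d.b.left ∣_ d.W).stalkMap ⟨z, hz⟩) := inferInstance
  exact ((MorphismProperty.isomorphisms CommRingCat).arrow_mk_iso_iff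
    (morphismRestrictStalkMap d.b.left d.W ⟨z, hz⟩)).1 (inferInstanceAs (IsIso _))

variable {n : ℕ} {Γ : Fin (n + 1) → ArSurf.VertComp R d.X} (hΓ : Models.IsComponentList R d.X Γ)
  (hlast : Γ (Fin.last n) = d.E)

theorem mem_fibre {z : d.X.left} (h : d.b.left z ∈ Models.specialFibreSet R d.X') :
    z ∈ Models.specialFibreSet R d.X := by
  show d.X.hom z = IsLocalRing.closedPoint R
  rw [← Over.w d.b]
  exact h

theorem mem_fibre' {z : d.X.left} (h : z ∈ Models.specialFibreSet R d.X) :
    d.b.left z ∈ Models.specialFibreSet R d.X' := by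
  show (d.b.left ≫ d.X'.hom) z = IsLocalRing.closedPoint R
  rw [Over.w d.b]
  exact h

include hΓ hlast

/-- The generic point of a component other than the contracted one avoids the centre. -/
theorem b_genPt_ne (i : Fin n) : d.b.left (Models.genPtOf R d.X (Γ i.castSucc)) ≠ d.y := fun h => by
  have hmem : Models.genPtOf R d.X (Γ i.castSucc) ∈ ((Γ (Fin.last n)).ι.ker.support : Set d.X.left) := by
    rw [support_ker, hlast, ← d.hfib]
    exact h
  exact i.castSucc_ne_last (eq_of_genPtOf_mem hΓ hmem)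

theorem notMem_of_ne {i j : Fin n} (hij : i ≠ j) :
    d.b.left (Models.genPtOf R d.X (Γ i.castSucc)) ∉
      d.b.left '' Set.range ((Γ j.castSucc).ι.base : (Γ j.castSucc).curve.left → d.X.left) := by
  rintro ⟨z, hz, hze⟩
  have e := d.eq_of_eq (d.b_genPt_ne hΓ hlast i) hze.symm
  exact hij (Fin.castSucc_injective _ (eq_of_genPtOf_mem hΓ (by rw [support_ker, e]; exact hz)))

omit hΓ hlast in
theorem isGenericPoint_image (Δ : ArSurf.VertComp R d.X) :
    IsGenericPoint (d.b.left (Models.genPtOf R d.X Δ))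
      (d.b.left '' Set.range (Δ.ι.base : Δ.curve.left → d.X.left)) := by
  have h := isGenericPoint_genPtOf Δ
  rw [support_ker] at h
  have h' := h.image d.b.left.continuous
  rwa [(d.b.left.isClosedMap _ Δ.ι.isClosedEmbedding.isClosed_range).closure_eq] at h'

theorem fibreComponents_eq :
    Models.fibreComponents R d.X' = Set.range (fun i : Fin n =>
      d.b.left '' Set.range ((Γ i.castSucc).ι.base : (Γ i.castSucc).curve.left → d.X.left)) := by
  have hirr : ∀ i : Fin n, IsIrreducible (d.b.left ''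
      Set.range ((Γ i.castSucc).ι.base : (Γ i.castSucc).curve.left → d.X.left)) ∧
      d.b.left '' Set.range ((Γ i.castSucc).ι.base : (Γ i.castSucc).curve.left → d.X.left) ⊆
        Models.specialFibreSet R d.X' := fun i => by
    refine ⟨(d.isGenericPoint_image _).def ▸ isIrreducible_singleton.closure, ?_⟩
    rintro _ ⟨_, ⟨c, rfl⟩, rfl⟩
    exact d.mem_fibre' (genPtOf_mem_fibre _ c)
  obtain ⟨m, Δ, hΔ, -⟩ := Groth.L05.GeomMult.exists_componentList (X := d.X')
    (Groth.L05.MinModel.surface d.hC d.hX').2.2.1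
  have key : ∀ k : Fin m, ∃ i : Fin n, Set.range ((Δ k).ι.base : (Δ k).curve.left → d.X'.left) =
      d.b.left '' Set.range ((Γ i.castSucc).ι.base : (Γ i.castSucc).curve.left → d.X.left) := by
    intro k
    have hmax : Set.range ((Δ k).ι.base : (Δ k).curve.left → d.X'.left) ∈ Models.fibreComponents R d.X' :=
      hΔ.2 ▸ ⟨k, rfl⟩
    have hne : Models.genPtOf R d.X' (Δ k) ≠ d.y := fun h => by
      have h1 := dim_genPtOf d.hX'.2.2 hΔ k
      rw [h, d.hdim] at h1
      exact absurd h1 (by decide)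
    obtain ⟨z, hz⟩ := d.surjective (Models.genPtOf R d.X' (Δ k))
    obtain ⟨l, hl⟩ := exists_component hΓ (d.mem_fibre (z := z) (by rw [hz]; exact genPtOf_mem_fibre _ _))
    obtain ⟨i, rfl⟩ | rfl := l.eq_castSucc_or_eq_last
    · refine ⟨i, Maximal.eq_of_subset (P := fun S : Set d.X'.left => IsIrreducible S ∧ S ⊆ Models.specialFibreSet R d.X') hmax (hirr i) ?_⟩
      have hg := isGenericPoint_genPtOf (Δ k)
      rw [support_ker] at hg
      rw [← hg.def]
      exact closure_minimal (Set.singleton_subset_iff.2 ⟨z, hl, hz⟩)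
        (d.b.left.isClosedMap _ (Γ i.castSucc).ι.isClosedEmbedding.isClosed_range)
    · rw [hlast, ← d.hfib] at hl
      exact absurd (hz.symm.trans hl) hne
  refine Set.Subset.antisymm ?_ ?_
  · rw [← hΔ.2]
    rintro _ ⟨k, rfl⟩
    obtain ⟨i, hi⟩ := key k
    exact ⟨i, hi.symm⟩
  · rintro _ ⟨i, rfl⟩
    obtain ⟨k, hk⟩ := exists_component hΔ ((hirr i).2 ⟨_, ⟨_, rfl⟩, rfl⟩ :
      d.b.left (Models.genPtOf R d.X (Γ i.castSucc)) ∈ Models.specialFibreSet R d.X')
    obtain ⟨l, hl⟩ := key k
    rw [hl] at hk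
    obtain rfl : i = l := by_contra fun h => d.notMem_of_ne hΓ hlast h hk
    rw [← hΔ.2]
    exact ⟨k, hl⟩

variable {Γ' : Fin n → ArSurf.VertComp R d.X'}
  (hΓ' : ∀ i, Set.range ((Γ' i).ι.base : (Γ' i).curve.left → d.X'.left) =
    d.b.left '' Set.range ((Γ i.castSucc).ι.base : (Γ i.castSucc).curve.left → d.X.left))

include hΓ'

theorem isComponentList : Models.IsComponentList R d.X' Γ' := by
  refine ⟨fun i j h => by_contra fun hij => d.notMem_of_ne hΓ hlast hij ?_, ?_⟩
  · rw [← hΓ' j]
    rw [show Set.range ((Γ' j).ι.base : (Γ' j).curve.left → d.X'.left) = Set.range (Γ' i).ι.base from h.symm, hΓ' i]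
    exact ⟨_, ⟨_, rfl⟩, rfl⟩
  · rw [d.fibreComponents_eq hΓ hlast]
    exact congrArg Set.range (funext hΓ')

theorem genPt_eq (i : Fin n) :
    Models.genPtOf R d.X' (Γ' i) = d.b.left (Models.genPtOf R d.X (Γ i.castSucc)) := by
  have h := isGenericPoint_genPtOf (Γ' i)
  rw [support_ker, hΓ'] at h
  exact h.eq (d.isGenericPoint_image _)

/-- The maximal ideal at the generic point of a component is the image of the one below. -/
theorem map_maximalIdeal (i : Fin n) :
    (IsLocalRing.maximalIdeal (d.X'.left.presheaf.stalk (d.b.left (Models.genPtOf R d.X (Γ i.castSucc))))).map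
        (d.b.left.stalkMap (Models.genPtOf R d.X (Γ i.castSucc))).hom =
      IsLocalRing.maximalIdeal (d.X.left.presheaf.stalk (Models.genPtOf R d.X (Γ i.castSucc))) := by
  haveI := d.isIso_stalkMap (d.b_genPt_ne hΓ hlast i)
  exact IsLocalRing.map_maximalIdeal_of_surjective _
    (asIso (d.b.left.stalkMap (Models.genPtOf R d.X (Γ i.castSucc)))).commRingCatIsoToRingEquiv.surjective

theorem mult_eq (i : Fin n) : Models.mult R d.X' (Γ' i) = Models.mult R d.X (Γ i.castSucc) := by
  haveI := d.hX.2.2 (Models.genPtOf R d.X (Γ i.castSucc))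
  haveI := Groth.L01.isDomain_of_regular (d.X.left.presheaf.stalk (Models.genPtOf R d.X (Γ i.castSucc)))
  have h' := stI_fibre d.hX'.2.2 (d.isComponentList hΓ hlast hΓ') i
  rw [d.genPt_eq hΓ hlast hΓ'] at h'
  have h := stI_fibre d.hX.2.2 hΓ i.castSucc
  have hcomp : Models.specialFibreIdeal R d.X = (Models.specialFibreIdeal R d.X').comap d.b.left := by
    rw [Models.specialFibreIdeal, Models.specialFibreIdeal, ← Scheme.IdealSheafData.comap_comp, Over.w d.b]
  rw [hcomp, stI_comap, h', Ideal.map_pow, d.map_maximalIdeal hΓ hlast hΓ' i] at h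
  exact eq_of_pow_eq (maximalIdeal_ne_bot d.hX.2.2 hΓ i.castSucc) h

/-- The pull-back of a component is its strict transform plus a multiple of the contracted curve. -/
theorem exists_comap_eq (j : Fin n) :
    ∃ e : Fin (n + 1) → ℕ, e j.castSucc = 1 ∧ (∀ l : Fin n, l ≠ j → e l.castSucc = 0) ∧
      BlowUp.IsEffCartierIdeal ((Γ' j).ι.ker.comap d.b.left) ∧
      Nonempty ((Scheme.Modules.pullback d.b.left).obj (ClSub.idealMod (Γ' j).ι.ker) ≅
        ClSub.idealMod ((Γ' j).ι.ker.comap d.b.left)) ∧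
      (Γ' j).ι.ker.comap d.b.left = div Γ e := by
  have hΔ := d.isComponentList hΓ hlast hΓ'
  have hη : d.b.left (genericPoint d.X.left) ∉ ((Γ' j).ι.ker.support : Set d.X'.left) := by
    rw [support_ker]
    rintro ⟨c, hc⟩
    have h1 : d.X.hom (genericPoint d.X.left) = IsLocalRing.closedPoint R :=
      d.mem_fibre (by rw [← hc]; exact genPtOf_mem_fibre _ c)
    obtain ⟨gX, hgX⟩ := d.hX.1.2.2.2
    haveI := Groth.L05.MinModel.isOpenImmersion_model hgX
    haveI : IsIntegral C := d.hC.2.2.1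
    have h2 : genericPoint d.X.left ∈ gX.opensRange :=
      Groth.L05.MinDesing.genericPoint_mem (Set.range_nonempty gX)
    have h3 := (Groth.L05.MinModel.range_model hgX).subset h2
    exact h3 h1
  obtain ⟨hC', hiso⟩ := Groth.L03.BlowPt.nonempty_pullback_idealMod (b := d.b.left)
    (isEffCartier d.hX'.2.2 hΔ j) hη
  obtain ⟨e, he⟩ := exists_eq_div d.hX.2.2 hΓ hC' (by
    rw [Scheme.IdealSheafData.support_comap]
    intro z hz
    have hz' : d.b.left z ∈ ((Γ' j).ι.ker.support : Set d.X'.left) := hz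
    rw [support_ker] at hz'
    obtain ⟨c, hc⟩ := hz'
    exact d.mem_fibre (by rw [← hc]; exact genPtOf_mem_fibre _ c))
  haveI := isIntegral_subscheme_ker (Γ' j)
  refine ⟨e, eq_of_stI_div d.hX.2.2 hΓ e j.castSucc ?_, fun l hl => eq_of_stI_div d.hX.2.2 hΓ e l.castSucc ?_,
    hC', hiso, he⟩
  · rw [← he, stI_comap, stI_generic _ (by rw [← d.genPt_eq hΓ hlast hΓ']; exact isGenericPoint_genPtOf _),
      d.map_maximalIdeal hΓ hlast hΓ' j, pow_one]
  · rw [← he, stI_comap, (stI_eq_top_iff _ _).2 (by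
      rw [support_ker, hΓ']; exact d.notMem_of_ne hΓ hlast hl), Ideal.map_top, pow_zero, Ideal.one_eq_top]

/-- The degree on a component of an invertible module pulled back from the contracted surface. -/
theorem inter_pullback (i : Fin n) {M : d.X'.left.Modules} (hM : PicF.IsInvertible M) :
    ArSurf.inter R d.X ((Scheme.Modules.pullback d.b.left).obj M) (Γ i.castSucc) =
      ArSurf.inter R d.X' M (Γ' i) := by
  set Δ := Γ i.castSucc
  obtain ⟨l, hl⟩ := Groth.L05.PtSeq.exists_lift_closed (Γ' i).ι (Δ.ι ≫ d.b.left) (by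
    rw [hΓ', Scheme.Hom.comp_base, TopCat.coe_comp, Set.range_comp])
  have hover : l ≫ (Γ' i).curve.hom = Δ.curve.hom := by
    haveI := isClosedImmersion_pt (R := R)
    rw [← cancel_mono (Spec.map (CommRingCat.ofHom (IsLocalRing.residue R))), Category.assoc, ← (Γ' i).w, ← Δ.w,
      ← Category.assoc, hl, Category.assoc, Over.w d.b]
  let U : (Γ' i).curve.left.Opens := (Γ' i).ι ⁻¹ᵁ d.W
  have hlU : ∀ c, c ∈ l ⁻¹ᵁ U ↔ d.b.left (Δ.ι c) ≠ d.y := fun c => by
    show (l ≫ (Γ' i).ι) c ∈ d.W ↔ _
    rw [hl]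
    rfl
  have hgenU : genericPoint Δ.curve.left ∈ l ⁻¹ᵁ U := (hlU _).2 (d.b_genPt_ne hΓ hlast i)
  haveI : IsClosedImmersion (l ∣_ U) := by
    haveI h1 : IsClosedImmersion ((Δ.ι ≫ d.b.left) ∣_ d.W) := by rw [morphismRestrict_comp]; infer_instance
    rw [← hl, morphismRestrict_comp] at h1
    exact IsClosedImmersion.of_comp_isClosedImmersion (l ∣_ U) ((Γ' i).ι ∣_ d.W)
  haveI : Surjective (l ∣_ U) := ⟨fun ⟨w, hw⟩ => by
    obtain ⟨z, ⟨c, rfl⟩, hz⟩ := (hΓ' i).subset ⟨w, rfl⟩
    have hlc : l c = w := (Γ' i).ι.isClosedEmbedding.injective (by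
      show (l ≫ (Γ' i).ι) c = _
      rw [hl]
      exact hz)
    refine ⟨⟨c, show l c ∈ U by rw [hlc]; exact hw⟩, Subtype.ext ?_⟩
    rw [morphismRestrict_base_coe]
    exact hlc⟩
  haveI : IsIso (l ∣_ U) := isIso_of_isClosedImmersion_of_surjective _
  haveI := isProper_curve Δ
  haveI := isProper_curve (Γ' i)
  let N := (Scheme.Modules.pullback (Γ' i).ι).obj M
  let θ : (Scheme.Modules.pullback Δ.ι).obj ((Scheme.Modules.pullback d.b.left).obj M) ≅
      (Scheme.Modules.pullback l).obj N :=
    (Scheme.Modules.pullbackComp Δ.ι d.b.left).app M ≪≫ (Scheme.Modules.pullbackCongr hl.symm).app M ≪≫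
      ((Scheme.Modules.pullbackComp l (Γ' i).ι).app M).symm
  rw [ArSurf.inter, ArSurf.inter, curveDeg_congr _ Δ.dim_eq θ, curveDeg_eq_euler _ Δ.dim_eq,
    curveDeg_eq_euler _ (Γ' i).dim_eq]
  have h := Groth.Agent.S1666.result (IsLocalRing.ResidueField R) (Γ' i).curve.left Δ.curve.left
    (Γ' i).dim_eq.le Δ.dim_eq.le l hover U (U.2.dense ⟨l (genericPoint _), hgenU⟩)
    ((l ⁻¹ᵁ U).2.dense ⟨_, hgenU⟩) inferInstance 1 N
    (Groth.L03.ShStab.RankOneSlope.rank_one_of_invertible (Groth.L18.Ample.isInvertible_pullback _ hM))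
  rw [Curv2.deg, Curv2.deg, Nat.cast_one, one_mul, one_mul] at h
  exact h

theorem inter_formula {L : Fin (n + 1) → d.X.left.Modules}
    (hL : ∀ i, ClSub.IsInverseOf (L i) (ClSub.idealMod (Γ i).ι.ker)) {L' : Fin n → d.X'.left.Modules}
    (hL' : ∀ j, ClSub.IsInverseOf (L' j) (ClSub.idealMod (Γ' j).ι.ker)) (i j : Fin n) :
    ArSurf.inter R d.X' (L' j) (Γ' i) * ArSurf.inter R d.X (L (Fin.last n)) (Γ (Fin.last n)) =
      ArSurf.inter R d.X (L j.castSucc) (Γ i.castSucc) * ArSurf.inter R d.X (L (Fin.last n)) (Γ (Fin.last n)) -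
        ArSurf.inter R d.X (L (Fin.last n)) (Γ i.castSucc) *
          ArSurf.inter R d.X (L (Fin.last n)) (Γ j.castSucc) := by
  have hreg := d.hX.2.2
  have hD := isEffCartier hreg hΓ
  have hΔ := d.isComponentList hΓ hlast hΓ'
  have hD' := isEffCartier d.hX'.2.2 hΔ j
  have hM := (Groth.Agent.L19.IdealInvertible.isEffCartier_iff _).2 hD'
  obtain ⟨e, hej, he0, -, ⟨ψ⟩, he⟩ := d.exists_comap_eq hΓ hlast hΓ' j
  have hsum : ∀ Δ : ArSurf.VertComp R d.X,
      ArSurf.inter R d.X ((Scheme.Modules.pullback d.b.left).obj (ClSub.idealMod (Γ' j).ι.ker)) Δ =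
        negDeg Δ (Γ j.castSucc).ι.ker + (e (Fin.last n) : ℤ) * negDeg Δ (Γ (Fin.last n)).ι.ker := fun Δ => by
    rw [inter_congr Δ ψ]
    show negDeg Δ _ = _
    rw [he, negDeg_div hreg hΓ, Fin.sum_univ_castSucc, Finset.sum_eq_single j
      (fun l _ hl => by rw [he0 l hl, Nat.cast_zero, zero_mul]) (fun h => absurd (Finset.mem_univ j) h),
      hej, Nat.cast_one, one_mul]
  have hi := (d.inter_pullback hΓ hlast hΓ' i hM).symm.trans (hsum (Γ i.castSucc))
  have hE := (hsum (Γ (Fin.last n))).symm.trans (Groth.Agent.S7935.result R d.X d.X'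
    (Groth.L05.ModelProj.isArithSurface d.hC d.hX) (Groth.L05.ModelProj.isArithSurface d.hC d.hX') d.b
    (fun w => by obtain ⟨z, hz⟩ := d.surjective w; exact hz ▸ subset_closure ⟨z, rfl⟩)
    (Γ (Fin.last n)) d.y (by
      rw [hlast, Scheme.Hom.comp_base, TopCat.coe_comp, Set.range_comp, ← d.hfib,
        Set.image_preimage_eq _ d.surjective]) _ hM)
  have hA' : ArSurf.inter R d.X' (L' j) (Γ' i) =
      - ArSurf.inter R d.X' (ClSub.idealMod (Γ' j).ι.ker) (Γ' i) :=
    inter_eq_neg_negDeg (Γ' i) hD' (hL' j)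
  have hneg : ∀ (Δ : ArSurf.VertComp R d.X) (l : Fin (n + 1)),
      negDeg Δ (Γ l).ι.ker = - ArSurf.inter R d.X (L l) Δ := fun Δ l => by
    rw [inter_eq_neg_negDeg Δ (hD l) (hL l), neg_neg]
  rw [hneg, hneg] at hi hE
  rw [inter_symm hreg hΓ hL (Fin.last n) j.castSucc] at hE
  rw [hA', hi]
  linear_combination -(ArSurf.inter R d.X (L (Fin.last n)) (Γ i.castSucc)) * hE

end Data

end Groth.L05.ModelContr
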